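import Cfsg.Agent.BabyM.KLink
import Cfsg.Agent.KFacts.AutLarge

/-!
# The Baby Monster model: a one-dimensional fixed space (helper235)

The group generated by the letters `y1, …, y10` of `C = 2^{1+22}.Co₂` fixes only `0` and the class of `x₀ = Z_10` in `Q/⟨z⟩`. So the
stabiliser of `x₀` modulo `z` fixes only `1`, `x₀` modulo `z` (`fix`); the same for `↥Inst.M.G` in the form of
`KFacts/SheetInner.lean` (`fix_G`).
-/

set_option autoImplicit false

namespace Cfsg.Agent.KFacts.Baby.Fix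

open Cfsg.Agent.Monster Cfsg.Agent.Monster.VecEngine Cfsg.Agent.Monster.VecSpace
open Cfsg.Agent.Monster.PauliBasic Cfsg.Agent.Monster.PauliRep Cfsg.Agent.Monster.PauliClif Cfsg.Agent.Monster.PauliBits
open Cfsg.Agent.BabyM Cfsg.Agent.BabyM.QAct Cfsg.Agent.BabyM.QData Cfsg.Agent.BabyM.KRowData
open Cfsg.Agent.BabyM.Conc Cfsg.Agent.BabyM.KTab Cfsg.Agent.BabyM.KRow Cfsg.Agent.BabyM.KQ
open Cfsg.Agent.KFacts.AutLarge Cfsg.Agent.Monster.PauliGates

/-! ### the letters -/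

/-- the letters `y1, …, y10` -/
def yl : ℕ → Ltr
  | 0 => .y1
  | 1 => .y2
  | 2 => .y3
  | 3 => .y4
  | 4 => .y5
  | 5 => .y6
  | 6 => .y7
  | 7 => .y8
  | 8 => .y9
  | _ => .y10

/-- their tables -/
noncomputable def II : ℕ → ℕ
  | 0 => I_y1
  | 1 => I_y2
  | 2 => I_y3
  | 3 => I_y4
  | 4 => I_y5
  | 5 => I_y6
  | 6 => I_y7
  | 7 => I_y8
  | 8 => I_y9
  | _ => I_y10

theorem rel (l : ℕ) (hl : l < 10) :
    ∀ k < 22, E (yl l) * Cd.R (dec 11 (2 ^ k)) = Cd.R (dec 11 (im (II l) k)) * E (yl l) := by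
  interval_cases l
  · exact KRelY1.rel_y1
  · exact KRelY1.rel_y2
  · exact KRelY1.rel_y3
  · exact KRelY1.rel_y4
  · exact KRelY1.rel_y5
  · exact KRelY2.rel_y6
  · exact KRelY2.rel_y7
  · exact KRelY2.rel_y8
  · exact KRelY2.rel_y9
  · exact KRelY2.rel_y10

theorem yl_mem (l : ℕ) (hl : l < 10) : E (yl l) ∈ Inst.M.C := by
  have h : (yl l).isC = true := by interval_cases l <;> rfl
  exact Subgroup.subset_closure ⟨yl l, h, rfl⟩

/-! ### the form in codes -/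

theorem form_xor (Y : Pauli 11) (a b : ℕ) :
    Pauli.form Y (dec 11 (a ^^^ b)) = Pauli.form Y (dec 11 a) + Pauli.form Y (dec 11 b) := by
  have h1 : (dec 11 (a ^^^ b)).a = (dec 11 a).a + (dec 11 b).a := by
    funext i
    exact bit_xor a b _
  have h2 : (dec 11 (a ^^^ b)).b = (dec 11 a).b + (dec 11 b).b := by
    funext i
    exact bit_xor a b _
  unfold Pauli.form
  rw [h1, h2, dotProduct_add, add_dotProduct]
  ring

theorem form_zero_code (Y : Pauli 11) : Pauli.form Y (dec 11 0) = 0 := by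
  have h1 : (dec 11 0).a = 0 := by funext i; exact bit_zero _
  have h2 : (dec 11 0).b = 0 := by funext i; exact bit_zero _
  unfold Pauli.form
  rw [h1, h2, dotProduct_zero, zero_dotProduct, add_zero]

theorem form_z_code (Y : Pauli 11) : Pauli.form Y (dec 11 0x400000) = 0 := by
  rw [dec_z, QAct.form_comm]
  exact QAct.form_z_left Y

/-- The sum of the elements `X_k + (X_k)^{y_l}`, `(l, k) ∈ L`. -/
noncomputable def acc (L : List (ℕ × ℕ)) : ℕ :=
  L.foldr (fun p r => (2 ^ p.2 ^^^ im (II p.1) p.2) ^^^ r) 0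

theorem form_acc (Y : Pauli 11) (h : ∀ l < 10, ∀ k < 22, Pauli.form Y (dec 11 (2 ^ k ^^^ im (II l) k)) = 0)
    (L : List (ℕ × ℕ)) (hL : ∀ p ∈ L, p.1 < 10 ∧ p.2 < 22) : Pauli.form Y (dec 11 (acc L)) = 0 := by
  induction L with
  | nil => exact form_zero_code Y
  | cons p L ih =>
    show Pauli.form Y (dec 11 ((2 ^ p.2 ^^^ im (II p.1) p.2) ^^^ acc L)) = 0
    rw [form_xor, h p.1 (hL p (List.mem_cons_self ..)).1 p.2 (hL p (List.mem_cons_self ..)).2,
      ih (fun q hq => hL q (List.mem_cons_of_mem _ hq)), add_zero]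

/-- the certificate -/
def cert : ℕ → List (ℕ × ℕ)
  | 0 => [(1, 20), (3, 18)]
  | 1 => [(0, 13), (6, 18)]
  | 2 => [(0, 19), (1, 16)]
  | 3 => [(0, 16), (4, 19)]
  | 4 => [(0, 19), (6, 18)]
  | 5 => [(1, 19), (3, 18)]
  | 6 => [(0, 18), (3, 15)]
  | 7 => [(0, 12), (0, 16), (1, 15)]
  | 8 => [(0, 15), (3, 16), (6, 20)]
  | 9 => [(0, 13), (6, 19)]
  | 10 => [(0, 0)]
  | 11 => [(0, 21)]
  | 12 => [(1, 21)]
  | 13 => [(0, 13), (2, 21), (6, 18)]
  | 14 => [(3, 21)]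
  | 15 => [(4, 21)]
  | 16 => [(0, 16), (4, 19), (5, 21)]
  | 17 => [(0, 19), (6, 18), (6, 21)]
  | 18 => [(7, 21)]
  | 19 => [(8, 21)]
  | _ => [(1, 20), (3, 18), (9, 21)]

theorem cert_ok (i : ℕ) (hi : i < 21) :
    (∀ p ∈ cert i, p.1 < 10 ∧ p.2 < 22) ∧ (acc (cert i) = 2 ^ i ∨ acc (cert i) = 2 ^ i ^^^ 0x400000) := by
  interval_cases i <;> exact ⟨by decide, by decide +kernel⟩

theorem form_two_pow (Y : Pauli 11) (h : ∀ l < 10, ∀ k < 22, Pauli.form Y (dec 11 (2 ^ k ^^^ im (II l) k)) = 0)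
    {i : ℕ} (hi : i < 21) : Pauli.form Y (dec 11 (2 ^ i)) = 0 := by
  obtain ⟨h1, h2⟩ := cert_ok i hi
  have h3 := form_acc Y h (cert i) h1
  rcases h2 with h2 | h2
  · rwa [h2] at h3
  · rw [h2, form_xor, form_z_code, add_zero] at h3
    exact h3

/-- An element orthogonal to all generators but `X_10` is `1` or `Z_10` modulo `z`. -/
theorem ab_of_form (Y : Pauli 11) (h : ∀ i < 21, Pauli.form Y (dec 11 (2 ^ i)) = 0) :
    ab Y = 0 ∨ ab Y = ab (dec 11 (2 ^ 10)) := by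
  have ha : Y.a = 0 := by
    funext i
    have h1 := h i.1 (by have := i.2; omega)
    rw [dec_Z] at h1
    unfold Pauli.form at h1
    have e : (⟨0, 0, dl i⟩ : Pauli 11).a = 0 := rfl
    have e2 : (⟨0, 0, dl i⟩ : Pauli 11).b = dl i := rfl
    rw [e, e2, dotProduct_zero, zero_add] at h1
    have h2 : dl i ⬝ᵥ Y.a = Y.a i := by
      unfold dl
      rw [single_dotProduct, one_mul]
    rw [h2] at h1
    exact h1
  have hb : ∀ i : Fin 11, i.1 ≠ 10 → Y.b i = 0 := by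
    intro i hi
    have h1 := h (11 + i.1) (by have := i.2; omega)
    rw [dec_X] at h1
    unfold Pauli.form at h1
    have e : (⟨0, dl i, 0⟩ : Pauli 11).a = dl i := rfl
    have e2 : (⟨0, dl i, 0⟩ : Pauli 11).b = 0 := rfl
    rw [e, e2, zero_dotProduct, add_zero] at h1
    have h2 : Y.b ⬝ᵥ dl i = Y.b i := by
      unfold dl
      rw [dotProduct_single, mul_one]
    rw [h2] at h1
    exact h1
  have hd : dec 11 (2 ^ 10) = ⟨0, 0, dl (10 : Fin 11)⟩ := dec_Z (n := 11) 10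
  rcases zmod2_cases (Y.b 10) with h1 | h1
  · left
    refine Prod.ext ha ?_
    funext i
    by_cases hi : i.1 = 10
    · have : i = 10 := Fin.ext hi
      rw [this]; exact h1
    · exact hb i hi
  · right
    rw [hd]
    refine Prod.ext ha ?_
    funext i
    show Y.b i = dl (10 : Fin 11) i
    by_cases hi : i.1 = 10
    · have : i = 10 := Fin.ext hi
      rw [this, h1]; simp [dl]
    · rw [hb i hi]
      have : i ≠ 10 := fun e => hi (by rw [e]; rfl)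
      simp [dl, this]

/-! ### the fixed space -/

theorem comm_iff (Y X : Pauli 11) : Cd.R Y * Cd.R X = Cd.R X * Cd.R Y ↔ Pauli.form Y X = 0 := by
  rw [← map_mul, ← map_mul, Cd.R_injective.eq_iff]
  have h := Pauli.mul_eq_mul_mul_form Y X
  rcases zmod2_cases (Pauli.form Y X) with h1 | h1
  · rw [h1] at h
    refine ⟨fun _ => h1, fun _ => ?_⟩
    rw [h]
    have : (⟨0, 0, 0⟩ : Pauli 11) = 1 := rfl
    rw [this, one_mul]
  · constructor
    · intro h2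
      exfalso
      rw [h1, h2] at h
      have h3 : (⟨1, 0, 0⟩ : Pauli 11) = 1 := (right_eq_mul₀' h)
      have h4 := congrArg Pauli.s h3
      exact absurd h4 (by decide)
    · intro h2
      rw [h1] at h2
      exact absurd h2 (by decide)
where
  right_eq_mul₀' {a b : Pauli 11} (h : b = a * b) : a = 1 := by
    have := congrArg (· * b⁻¹) h
    simpa using this.symm

theorem z_eq : Inst.M.z = Cd.R (Pauli.z 11) := KLink.link.z_eq

theorem comm_z (Y : Pauli 11) : Cd.R Y * Inst.M.z = Inst.M.z * Cd.R Y := by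
  rw [z_eq, comm_iff, QAct.form_comm]
  exact QAct.form_z_left Y

/-- If `y` is fixed modulo `z` by the letter `y_l`, it is orthogonal to the `X_k + (X_k)^{y_l}`. -/
theorem form_of_fix {l : ℕ} (hl : l < 10) {Y : Pauli 11}
    (h : E (yl l) * Cd.R Y * (E (yl l))⁻¹ = Cd.R Y ∨ E (yl l) * Cd.R Y * (E (yl l))⁻¹ = Cd.R Y * Inst.M.z)
    {k : ℕ} (hk : k < 22) : Pauli.form Y (dec 11 (2 ^ k ^^^ im (II l) k)) = 0 := by
  set c := E (yl l) with hc
  have hr : c * Cd.R (dec 11 (2 ^ k)) * c⁻¹ = Cd.R (dec 11 (im (II l) k)) := by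
    rw [rel l hl k hk, mul_inv_cancel_right]
  -- commutation is preserved
  have hcz : c * Inst.M.z = Inst.M.z * c := KLink.link.z_comm c (yl_mem l hl)
  have key : Cd.R Y * Cd.R (dec 11 (2 ^ k)) = Cd.R (dec 11 (2 ^ k)) * Cd.R Y ↔
      Cd.R Y * Cd.R (dec 11 (im (II l) k)) = Cd.R (dec 11 (im (II l) k)) * Cd.R Y := by
    have e1 : Cd.R Y * Cd.R (dec 11 (2 ^ k)) = Cd.R (dec 11 (2 ^ k)) * Cd.R Y ↔
        (c * Cd.R Y * c⁻¹) * (c * Cd.R (dec 11 (2 ^ k)) * c⁻¹) =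
          (c * Cd.R (dec 11 (2 ^ k)) * c⁻¹) * (c * Cd.R Y * c⁻¹) := by
      have a1 : (c * Cd.R Y * c⁻¹) * (c * Cd.R (dec 11 (2 ^ k)) * c⁻¹) =
        c * (Cd.R Y * Cd.R (dec 11 (2 ^ k))) * c⁻¹ := by group
      have a2 : (c * Cd.R (dec 11 (2 ^ k)) * c⁻¹) * (c * Cd.R Y * c⁻¹) =
        c * (Cd.R (dec 11 (2 ^ k)) * Cd.R Y) * c⁻¹ := by group
      rw [a1, a2]
      exact ⟨fun h => by rw [h], fun h => mul_left_cancel (mul_right_cancel h)⟩
    rw [e1, hr]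
    rcases h with h | h
    · rw [h]
    · rw [h]
      have b1 : Cd.R Y * Inst.M.z * Cd.R (dec 11 (im (II l) k)) =
          Cd.R Y * Cd.R (dec 11 (im (II l) k)) * Inst.M.z := by
        rw [mul_assoc, ← comm_z, ← mul_assoc]
      have b2 : Cd.R (dec 11 (im (II l) k)) * (Cd.R Y * Inst.M.z) =
          Cd.R (dec 11 (im (II l) k)) * Cd.R Y * Inst.M.z := (mul_assoc _ _ _).symm
      rw [b1, b2]
      exact ⟨fun h => mul_right_cancel h, fun h => by rw [h]⟩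
  rw [comm_iff, comm_iff] at key
  rw [form_xor]
  rcases zmod2_cases (Pauli.form Y (dec 11 (2 ^ k))) with h1 | h1
  · rw [h1, key.1 h1, add_zero]
  · rcases zmod2_cases (Pauli.form Y (dec 11 (im (II l) k))) with h2 | h2
    · rw [key.2 h2] at h1
      exact absurd h1 (by decide)
    · rw [h1, h2]; decide

/-- the vector `x₀ = Z_10` -/
noncomputable def x₀ : V ≃ₗ[ℚ] V := Cd.R (dec 11 (2 ^ 10))

theorem x₀_mem : x₀ ∈ Inst.M.Q := KLink.link.mem_Q.2 ⟨_, rfl⟩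

theorem ab_ten : ab (dec 11 (2 ^ 10)) ≠ 0 := by
  intro h
  exact absurd ((ab_dec_eq_zero (by norm_num)).1 h) (by norm_num)

/-- elements of `Q` with the same class -/
theorem eq_or_of_ab {Y Y' : Pauli 11} (h : ab Y = ab Y') : Cd.R Y = Cd.R Y' ∨ Cd.R Y = Cd.R Y' * Inst.M.z := by
  rcases (ab_eq_iff Y Y').1 h with h1 | h1
  · left; rw [h1]
  · right
    rw [h1, map_mul, ← z_eq]
    exact (comm_z Y').symm

theorem x₀_ne : x₀ ≠ 1 := by
  intro h
  have h1 : dec 11 (2 ^ 10) = 1 := Cd.R_injective (by rw [map_one]; exact h)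
  exact ab_ten (by rw [h1]; rfl)

theorem x₀_ne_z : x₀ ≠ Inst.M.z := by
  intro h
  have h1 : dec 11 (2 ^ 10) = Pauli.z 11 := Cd.R_injective (by rw [← z_eq]; exact h)
  exact ab_ten (by rw [h1]; rfl)

theorem im_ten (l : ℕ) (hl : l < 10) : im (II l) 10 = 2 ^ 10 ∨ im (II l) 10 = 2 ^ 10 ^^^ 0x400000 := by
  interval_cases l <;> decide +kernel

theorem ab_im_ten (l : ℕ) (hl : l < 10) : ab (dec 11 (im (II l) 10)) = ab (dec 11 (2 ^ 10)) := by
  rcases im_ten l hl with h | h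
  · rw [h]
  · rw [h]
    refine Prod.ext ?_ ?_
    · funext i
      show bit (2 ^ 10 ^^^ 0x400000) (11 + i.1) = bit (2 ^ 10) (11 + i.1)
      have h22 : bit 0x400000 (11 + i.1) = 0 := by
        have hi := i.2
        have : (0x400000 : ℕ) = 1 <<< 22 := by decide
        rw [this, bit_shiftLeft, if_neg (by omega)]
      rw [bit_xor, h22, add_zero]
    · funext i
      show bit (2 ^ 10 ^^^ 0x400000) i.1 = bit (2 ^ 10) i.1
      have h22 : bit 0x400000 i.1 = 0 := by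
        have hi := i.2
        have : (0x400000 : ℕ) = 1 <<< 22 := by decide
        rw [this, bit_shiftLeft, if_neg (by omega)]
      rw [bit_xor, h22, add_zero]

/-- the letters `y_l` fix `x₀` modulo `z` -/
theorem x₀_fix (l : ℕ) (hl : l < 10) :
    E (yl l) * x₀ * (E (yl l))⁻¹ = x₀ ∨ E (yl l) * x₀ * (E (yl l))⁻¹ = x₀ * Inst.M.z := by
  have h : E (yl l) * x₀ * (E (yl l))⁻¹ = Cd.R (dec 11 (im (II l) 10)) := by
    show E (yl l) * Cd.R (dec 11 (2 ^ 10)) * (E (yl l))⁻¹ = _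
    rw [rel l hl 10 (by norm_num), mul_inv_cancel_right]
  rw [h]
  exact eq_or_of_ab (ab_im_ten l hl)

/-- **The stabiliser of `x₀` modulo `z` fixes only `1`, `x₀` modulo `z`.** -/
theorem fix (y : V ≃ₗ[ℚ] V) (hy : y ∈ Inst.M.Q)
    (h : ∀ c ∈ Inst.M.C, (c * x₀ * c⁻¹ = x₀ ∨ c * x₀ * c⁻¹ = x₀ * Inst.M.z) →
      (c * y * c⁻¹ = y ∨ c * y * c⁻¹ = y * Inst.M.z)) :
    (y = 1 ∨ y = 1 * Inst.M.z) ∨ (y = x₀ ∨ y = x₀ * Inst.M.z) := by
  obtain ⟨Y, rfl⟩ := KLink.link.mem_Q.1 hy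
  rcases ab_of_form Y (fun i hi => form_two_pow Y (fun l hl k hk =>
    form_of_fix hl (h _ (yl_mem l hl) (x₀_fix l hl)) hk) hi) with h1 | h1
  · left
    rw [← map_one Cd.R]
    exact eq_or_of_ab (by rw [h1]; rfl)
  · right
    exact eq_or_of_ab h1

/-- The form of `KFacts/SheetInner.lean`. -/
theorem fix_G (hG : Inst.M.C ≤ Inst.M.G) (z : Inst.M.G) (hz : (z : V ≃ₗ[ℚ] V) = Inst.M.z) :
    ∃ x ∈ Inst.M.Q.subgroupOf Inst.M.G, x ≠ 1 ∧ x ≠ z ∧
      ∀ y ∈ Inst.M.Q.subgroupOf Inst.M.G, (∀ c : Inst.M.G, c * z = z * c → Eqz z (c * x * c⁻¹) x →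
        Eqz z (c * y * c⁻¹) y) → Eqz z y 1 ∨ Eqz z y x := by
  refine ⟨⟨x₀, hG (KLink.link.Q_le x₀_mem)⟩, x₀_mem, fun e => x₀_ne (congrArg Subtype.val e),
    fun e => x₀_ne_z ((congrArg Subtype.val e).trans hz), ?_⟩
  intro y hy h
  have h1 := fix (y : V ≃ₗ[ℚ] V) hy (by
    intro c hc hcx
    have h2 := h ⟨c, hG hc⟩ (Subtype.ext (by
      show c * (z : V ≃ₗ[ℚ] V) = (z : V ≃ₗ[ℚ] V) * c
      rw [hz]
      exact KLink.link.z_comm c hc)) (hcx.imp (fun e => Subtype.ext e) (fun e => Subtype.ext (by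
        show c * x₀ * c⁻¹ = x₀ * (z : V ≃ₗ[ℚ] V)
        rw [hz]; exact e)))
    refine h2.imp (fun e => congrArg Subtype.val e) (fun e => ?_)
    have h3 : c * (y : V ≃ₗ[ℚ] V) * c⁻¹ = (y : V ≃ₗ[ℚ] V) * (z : V ≃ₗ[ℚ] V) := congrArg Subtype.val e
    rw [hz] at h3
    exact h3)
  refine h1.imp (fun h2 => h2.imp (fun e => Subtype.ext e) (fun e => Subtype.ext ?_))
    (fun h2 => h2.imp (fun e => Subtype.ext e) (fun e => Subtype.ext ?_))
  · show (y : V ≃ₗ[ℚ] V) = 1 * (z : V ≃ₗ[ℚ] V)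
    rw [hz]; exact e
  · show (y : V ≃ₗ[ℚ] V) = x₀ * (z : V ≃ₗ[ℚ] V)
    rw [hz]; exact e

end Cfsg.Agent.KFacts.Baby.Fix
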