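import Cfsg.Agent.KFacts.Baby.Sheet
import Cfsg.Agent.KFacts.Baby.Fix
import Cfsg.Agent.OddHalf.D8.MainE

/-!
# ODD half, D8: the row of the Baby Monster (helper922)

`fix` : the field `fix` (helper235). `sheet_iso`: the sheet for a simple group isomorphic to the Baby Monster, with the
isomorphism. `row`, `row_of`: the row, given `Inner` and that `Spor.BabyMonster` is simple.
-/

set_option autoImplicit false

namespace Cfsg.Agent.KFacts.Baby.Row

open Cfsg Cfsg.Agent.BabyM Cfsg.Agent.BabyM.Model Cfsg.Agent.BabyU.ClosModel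
open Cfsg.Agent.BabyU.ClosLane Cfsg.Agent.OddHalf Cfsg.Agent.OddHalf.D8.Sheet Cfsg.Agent.KFacts.Baby.Sheet

universe u

theorem fix : Fix := Baby.Fix.fix_G A.C_le_G (zz A) rfl

/-- the sheet for the model -/
theorem sheet_model (hi : Inner) :
    SheetE (zz A) (Subgroup.centralizer ({zz A} : Set Inst.M.G)) (PP Inst.M) := Sheet.sheet hi fix

/-- **The row of the Baby Monster.** -/
theorem row (hi : Inner) (hB : IsSimpleGroup Spor.BabyMonster) (hF : D8.MainE.FrontOuter.{u})
    (hM : D8.MainE.NoComponent.{u}) : D8.Rows.Row.{u} (fun K _ => Spor.IsoB K) :=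
  D8.MainE.row hF hM fun K _ _ hK => by
    have hs : IsSimpleGroup K := hK.elim fun e => e.isSimpleGroup
    exact sheet_of_isoB hi fix hK

/-- **The row of the Baby Monster**, for a property of the sheet that is invariant under isomorphism. -/
theorem row_of {Y : (K : Type u) → [Group K] → K → Subgroup K → Subgroup K → Prop} (hi : Inner)
    (hB : IsSimpleGroup Spor.BabyMonster) (hM : D8.MainE.NoComp.{u} Y)
    (hY : ∀ (K : Type u) [Group K] (e : Inst.M.G ≃* K),
      Y K (e (zz A)) ((Subgroup.centralizer ({zz A} : Set Inst.M.G)).map (e : Inst.M.G →* K))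
        ((PP Inst.M).map (e : Inst.M.G →* K))) : D8.Rows.Row.{u} (fun K _ => Spor.IsoB K) :=
  D8.MainE.row_of hM fun K _ _ hK => by
    have hs : IsSimpleGroup K := hK.elim fun e => e.isSimpleGroup
    obtain ⟨e⟩ := exists_iso_of_isoB hK
    exact ⟨_, _, _, SheetIso.sheetE_map e (sheet_model hi), hY K e⟩

end Cfsg.Agent.KFacts.Baby.Row
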