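import Cfsg.Agent.KFacts.InnerCaseM
import Cfsg.Agent.KFacts.Baby.Row

/-!
# The sheet of case (M) for the Baby Monster (helper922)

`w = 11`, `p = 23`, `|Q| = 2^23`.
-/

set_option autoImplicit false

namespace Cfsg.Agent.KFacts.Baby.CaseM

open Cfsg Cfsg.Agent.BabyM Cfsg.Agent.BabyM.Model Cfsg.Agent.BabyU.ClosModel
open Cfsg.Agent.BabyU.ClosLane Cfsg.Agent.OddHalf Cfsg.Agent.OddHalf.D8.Sheet Cfsg.Agent.KFacts.Baby.Sheet
open Cfsg.Agent.OddHalf.CaseM

universe u

theorem card_PP : Nat.card (PP Inst.M) = 2 ^ 23 := by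
  rw [← A.grp.Q_card]
  exact Nat.card_congr (Subgroup.subgroupOfEquivOfLe (A.grp.Q_le.trans A.C_le_G)).toEquiv

/-- `SheetM` for the model -/
theorem sheetM (hi : Inner) : SheetM (Subgroup.centralizer ({zz A} : Set Inst.M.G)) (PP Inst.M) := by
  have := A.finite_G
  refine InnerCaseM.sheetM_of_data (data hi Row.fix) (p := 23) (w := 11) (by norm_num) (by norm_num) ?_ ?_
  · rw [A.grp.card]; norm_num
  · rw [card_PP]

/-- **The row of the Baby Monster**, case (M) included. -/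
theorem row (hi : Inner) (hB : IsSimpleGroup Spor.BabyMonster)
    (hM : D8.MainE.NoComp.{u} (fun _ _ _ P R => SheetM P R)) : D8.Rows.Row.{u} (fun K _ => Spor.IsoB K) :=
  Row.row_of hi hB hM fun _ _ e => InnerCaseM.sheetM_map e (sheetM hi)

end Cfsg.Agent.KFacts.Baby.CaseM
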