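import Cfsg.Agent.KFacts.Baby.Row
import Cfsg.Agent.BM.KHAll

/-!
# ODD half, D8: the row of the Baby Monster, with S1704 plugged in (helper922)
-/

set_option autoImplicit false

namespace Cfsg.Agent.KFacts.Baby.RowB

open Cfsg Cfsg.Agent.BabyM Cfsg.Agent.BabyM.Model Cfsg.Agent.BabyU.ClosModel
open Cfsg.Agent.BabyU.ClosLane Cfsg.Agent.OddHalf Cfsg.Agent.OddHalf.D8.Sheet Cfsg.Agent.KFacts.Baby.Sheet

universe u

theorem simple_B : IsSimpleGroup Spor.BabyMonster := BM.KHAll.isB.1

/-- A group isomorphic to the Baby Monster is isomorphic to the model. -/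
theorem exists_iso {K : Type*} [Group K] (h : Spor.IsoB K) : Nonempty (Inst.M.G ≃* K) := by
  obtain ⟨e⟩ := h
  exact ⟨(e.trans BM.KHAll.iso).symm⟩

/-- **The row of the Baby Monster.** -/
theorem row (hi : Inner) (hM : D8.MainE.NoComponent.{u}) : D8.Rows.Row.{u} (fun K _ => Spor.IsoB K) :=
  Row.row hi simple_B D8.MainE.frontOuter hM

/-- **The row of the Baby Monster**, for a property of the sheet that is invariant under isomorphism. -/
theorem row_of {Y : (K : Type u) → [Group K] → K → Subgroup K → Subgroup K → Prop} (hi : Inner)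
    (hM : D8.MainE.NoComp.{u} Y)
    (hY : ∀ (K : Type u) [Group K] (e : Inst.M.G ≃* K),
      Y K (e (zz A)) ((Subgroup.centralizer ({zz A} : Set Inst.M.G)).map (e : Inst.M.G →* K))
        ((PP Inst.M).map (e : Inst.M.G →* K))) : D8.Rows.Row.{u} (fun K _ => Spor.IsoB K) :=
  Row.row_of hi simple_B hM hY

end Cfsg.Agent.KFacts.Baby.RowB
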