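import Cfsg.Agent.KFacts.Baby.CaseM
import Cfsg.Agent.KFacts.Baby.RowB

/-!
# The facts of type (E) on the Baby Monster (helper922)

`facts hi` is literally `D8.Final.FactsE (fun K _ => Spor.IsoB K)`.
-/

set_option autoImplicit false

namespace Cfsg.Agent.KFacts.Baby.FactsB

open Cfsg Cfsg.Agent.BabyM Cfsg.Agent.BabyM.Model Cfsg.Agent.BabyU.ClosModel
open Cfsg.Agent.BabyU.ClosLane Cfsg.Agent.OddHalf Cfsg.Agent.OddHalf.D8.Sheet Cfsg.Agent.KFacts.Baby.Sheet
open Cfsg.Agent.OddHalf.CaseM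

universe u

/-- **The two sheets of a group isomorphic to the Baby Monster.** -/
theorem facts (hi : Inner) (K : Type u) [Group K] (_ : Finite K) (hK : Spor.IsoB K) :
    ∃ (z : K) (P R : Subgroup K), SheetE z P R ∧ SheetM P R := by
  obtain ⟨e⟩ := RowB.exists_iso hK
  exact ⟨_, _, _, SheetIso.sheetE_map e (Row.sheet_model hi), InnerCaseM.sheetM_map e (CaseM.sheetM hi)⟩

end Cfsg.Agent.KFacts.Baby.FactsB
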