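import Cfsg.Agent.BabyU.ClosModel
import Cfsg.Agent.BabyU.ClosLane
import Cfsg.Agent.KFacts.SheetInner

/-!
# The sheet of type (E) for the Baby Monster: the data of the model (helper922)

`K = ↥Inst.M.G`, `z = zz`, `Q = PP` (`2^{1+22}`), `C_K(z)/Q = K₀ ≃ Co₂`. `data inner fix : SheetInner.Data PP zz K₀`.
-/

set_option autoImplicit false

namespace Cfsg.Agent.KFacts.Baby.Inst

open Cfsg Cfsg.Agent.BabyM Cfsg.Agent.BabyM.Model Cfsg.Agent.BabyU.ClosModel Cfsg.Agent.Co2Type.Quad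
open Cfsg.Agent.KFacts.AutLarge

section

variable {W : Type} [AddCommGroup W] [Module ℚ W] {M : BData W} {K₀ : Type} [Group K₀] (A : BAll M K₀)

theorem large : Large (PP M) (zz A) where
  z_mem := zP A
  z_ne := z_ne A
  z_sq := z_sq A
  comm_z := zc A
  conj_mem := fun g hg x hx => P_norm A g (Subgroup.mem_top g) hg x hx
  sq := fun x hx => (A.grp.Q_sq x (mem_PP.1 hx)).imp (fun e => Subtype.ext e) (fun e => Subtype.ext e)
  comm := P_comm A
  cent := fun x hx hc => (A.grp.Q_center x (mem_PP.1 hx) (fun y hy => by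
    have h1 := hc ⟨y, A.C_le_G (A.grp.Q_le hy)⟩ hy
    exact congrArg Subtype.val h1)).imp (fun e => Subtype.ext e) (fun e => Subtype.ext e)
  self := fun g hg hc => mem_PP.2 (A.grp.centralizer_Q g (mem_C_of A hg) (fun y hy => by
    have h1 := hc ⟨y, A.C_le_G (A.grp.Q_le hy)⟩ hy
    exact congrArg Subtype.val h1))

theorem irr' : Irr (PP M) (zz A) := by
  intro N hN hinv
  have hconj : ∀ g ∈ M.C, ∀ x ∈ N.map M.G.subtype, g * x * g⁻¹ ∈ N.map M.G.subtype := by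
    rintro g hg x ⟨y, hy, rfl⟩
    have h1 : (⟨g, A.C_le_G hg⟩ : M.G) * zz A = zz A * ⟨g, A.C_le_G hg⟩ := Subtype.ext (A.grp.z_comm g hg)
    exact ⟨_, hinv _ h1 y hy, rfl⟩
  have hle : N.map M.G.subtype ≤ M.Q := by
    rintro x ⟨y, hy, rfl⟩
    exact mem_PP.1 (hN hy)
  rcases A.grp.Q_irred (N.map M.G.subtype) hle hconj with h1 | h1
  · left
    intro n hn
    exact (h1 n ⟨n, hn, rfl⟩).imp (fun e => Subtype.ext e) (fun e => Subtype.ext e)
  · right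
    refine le_antisymm hN (fun q hq => ?_)
    have h2 : (q : W ≃ₗ[ℚ] W) ∈ N.map M.G.subtype := by
      rw [h1]
      exact mem_PP.1 hq
    obtain ⟨y, hy, h3⟩ := h2
    have h4 : y = q := Subtype.ext h3
    rwa [h4] at hy

theorem mem_cen {g : M.G} : g ∈ Subgroup.centralizer ({zz A} : Set M.G) ↔ (g : W ≃ₗ[ℚ] W) ∈ M.C := by
  rw [Subgroup.mem_centralizer_singleton_iff]
  exact ⟨fun h => mem_C_of A h, fun h => Subtype.ext (A.grp.z_comm g h)⟩

/-- `C_K(z)` is the group `C` of the model. -/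
def eC : Subgroup.centralizer ({zz A} : Set M.G) ≃* M.C where
  toFun c := ⟨((c : M.G) : W ≃ₗ[ℚ] W), (mem_cen A).1 c.2⟩
  invFun c := ⟨⟨c, A.C_le_G c.2⟩, (mem_cen A).2 c.2⟩
  left_inv _ := rfl
  right_inv _ := rfl
  map_mul' _ _ := rfl

theorem odd_index : Odd (Subgroup.centralizer ({zz A} : Set M.G)).index := by
  have := A.finite_G
  have h1 : Nat.card (Subgroup.centralizer ({zz A} : Set M.G)) = 2 ^ 23 * 42305421312000 := by
    rw [Nat.card_congr (eC A).toEquiv, A.grp.card_C]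
  have h2 := (Subgroup.centralizer ({zz A} : Set M.G)).card_mul_index
  rw [h1, A.card_G] at h2
  have h3 : (Subgroup.centralizer ({zz A} : Set M.G)).index = 11707448673375 := by
    apply Nat.eq_of_mul_eq_mul_left (show 0 < 2 ^ 23 * 42305421312000 by norm_num)
    rw [h2]; norm_num
  rw [h3]
  decide

include A in
theorem nonab : ∃ a b : K₀, a * b ≠ b * a := by
  by_contra hcon
  push Not at hcon
  have h1 := A.grp.simple
  have h2 : Nat.card K₀ = 42305421312000 := A.grp.card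
  have : Finite K₀ := Nat.finite_of_card_ne_zero (by rw [h2]; norm_num)
  let i : CommGroup K₀ := { (inferInstance : Group K₀) with mul_comm := hcon }
  have h3 : (Nat.card K₀).Prime := @IsSimpleGroup.prime_card K₀ i h1
  rw [h2] at h3
  revert h3
  norm_num

theorem quot : ∃ π : Subgroup.centralizer ({zz A} : Set M.G) →* K₀, Function.Surjective π ∧
    ∀ c, π c = 1 ↔ (c : M.G) ∈ PP M := by
  obtain ⟨π, hπs, hπ⟩ := A.grp.quot
  refine ⟨π.comp (eC A).toMonoidHom, hπs.comp (eC A).surjective, fun c => ?_⟩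
  exact hπ (eC A c)

theorem gen : ∃ n₀ : M.G, n₀ * zz A * n₀⁻¹ ∈ PP M ∧ n₀ * zz A * n₀⁻¹ ≠ zz A ∧
    Subgroup.closure ({c : M.G | c * zz A = zz A * c} ∪ {n₀}) = ⊤ := by
  refine ⟨⟨M.τ, A.τ_mem_G⟩, mem_PP.2 A.orb.τ_z, fun h => A.orb.τ_z_ne (congrArg Subtype.val h), ?_⟩
  rw [eq_top_iff]
  set N := Subgroup.closure ({c : M.G | c * zz A = zz A * c} ∪ {⟨M.τ, A.τ_mem_G⟩}) with hN
  have h1 : M.G ≤ N.map M.G.subtype := by
    show Subgroup.closure _ ≤ _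
    rw [Subgroup.closure_le]
    rintro g (hg | hg)
    · refine ⟨⟨g, A.C_le_G hg⟩, Subgroup.subset_closure (Or.inl ?_), rfl⟩
      exact Subtype.ext (A.grp.z_comm g hg)
    · rw [Set.mem_singleton_iff] at hg
      subst hg
      exact ⟨⟨M.τ, A.τ_mem_G⟩, Subgroup.subset_closure (Or.inr rfl), rfl⟩
  rintro ⟨g, hg⟩ _
  obtain ⟨n, hn, e⟩ := h1 hg
  have : n = ⟨g, hg⟩ := Subtype.ext e
  rwa [this] at hn

end

/-! ### A conjugate of `z` in `C_K(z)` outside `Q` -/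

open Cfsg.Agent.Monster.PauliBasic Cfsg.Agent.Monster.PauliBits Cfsg.Agent.Monster.PauliClif Cfsg.Agent.BabyM.Conc
open Cfsg.Agent.BabyM.KTab Cfsg.Agent.BabyM.KRow Cfsg.Agent.BabyM.KRowData Cfsg.Agent.BabyM.QAct Cfsg.Agent.BabyU.ClosLane

theorem mulK_dec (m n : ℕ) : dec 11 (mulK m n) = dec 11 m * dec 11 n := by
  rw [mulK_eq, dec_mulN (by norm_num)]

theorem form_zero {m n : ℕ} (h : Nat.beq (mulK m n) (mulK n m) = true) : Pauli.form (dec 11 m) (dec 11 n) = 0 := by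
  rw [← Pauli.commute_iff, ← mulK_dec, ← mulK_dec, Nat.eq_of_beq_eq_true h]

theorem form_one {m n : ℕ} (h : Nat.beq (Nat.xor (mulK m n) 0x400000) (mulK n m) = true) :
    Pauli.form (dec 11 m) (dec 11 n) ≠ 0 := by
  rw [Ne, ← Pauli.commute_iff, ← mulK_dec, ← mulK_dec, ← Nat.eq_of_beq_eq_true h]
  intro e
  have h1 : bit (mulK m n) 22 = bit (mulK m n ^^^ 0x400000) 22 := congrArg Pauli.s e
  rw [bit_xor] at h1
  have h2 : bit 0x400000 22 = 1 := by rw [bit_eq_one_iff]; decide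
  rw [h2] at h1
  revert h1
  generalize bit (mulK m n) 22 = a
  revert a; decide

theorem form_of {m n : ℕ} {x y : Pauli 11} (hx : ab x = v m) (hy : ab y = v n) :
    Pauli.form x y = Pauli.form (dec 11 m) (dec 11 n) := by
  rw [form_congr x (show ab y = ab (dec 11 n) from hy), form_comm, form_congr _ (show ab x = ab (dec 11 m) from hx),
    form_comm]

/-- `z' = τ z τ⁻¹ = Z₁₀`. -/
theorem z'_eq : Inst.M.τ * Inst.M.z * Inst.M.τ⁻¹ = Cd.R (dec 11 0x400) := by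
  rw [show Inst.M.τ * Inst.M.z * Inst.M.τ⁻¹ = E .Z10 from ConcGrp.τ_z_eq, KQ.E_Z10]

theorem act_a : Act (E .p * E .xi) 0x400 0x67c :=
  Act.mul (m := 0x4ea) (act_p (by decide +kernel)) (act_of KRelXi.rel_xi (by decide +kernel))

theorem act_b : Act (E .xi * (E .h * E .xi)) 0x400 0x1ef8d4 :=
  Act.mul (m := 0x572) (act_of KRelXi.rel_xi (by decide +kernel))
    (Act.mul (m := 0x4ea) (act_of KRelP.rel_h (by decide +kernel)) (act_of KRelXi.rel_xi (by decide +kernel)))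

theorem out : ∃ k : Inst.M.G, (k * zz A * k⁻¹) * zz A = zz A * (k * zz A * k⁻¹) ∧ k * zz A * k⁻¹ ∉ PP Inst.M := by
  obtain ⟨ya, hya, ea⟩ := act_a (dec 11 0x400) rfl
  obtain ⟨yb, hyb, eb⟩ := act_b (dec 11 0x400) rfl
  have hτ : Inst.M.τ ∈ Inst.M.G := A.τ_mem_G
  have hga : E .p * E .xi ∈ Inst.M.G := A.C_le_G (mul_mem (ConcGrp.mem_C rfl) (ConcGrp.mem_C rfl))
  have hgb : E .xi * (E .h * E .xi) ∈ Inst.M.G :=
    A.C_le_G (mul_mem (ConcGrp.mem_C rfl) (mul_mem (ConcGrp.mem_C rfl) (ConcGrp.mem_C rfl)))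
  have hR : ∀ x, Cd.R x ∈ Inst.M.G := fun x => A.C_le_G (A.grp.Q_le (R_mem_Q x))
  have hcomm : ∀ {x y : Pauli 11}, Pauli.form x y = 0 → Cd.R x * Cd.R y = Cd.R y * Cd.R x := fun {x y} h => by
    rw [← map_mul, ← map_mul, (Pauli.commute_iff x y).2 h]
  have e1 : ∀ g : V ≃ₗ[ℚ] V, g * (Inst.M.τ * Inst.M.z * Inst.M.τ⁻¹) * g⁻¹ = (g * Inst.M.τ) * Inst.M.z * (g * Inst.M.τ)⁻¹ :=
    fun g => by group
  refine LargeE.exists_outside (large A) (g := ⟨Inst.M.τ, hτ⟩) (a := ⟨Cd.R ya, hR ya⟩) (b := ⟨Cd.R yb, hR yb⟩)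
    ⟨⟨(E .p * E .xi) * Inst.M.τ, mul_mem hga hτ⟩, Subtype.ext ?_⟩
    ⟨⟨(E .xi * (E .h * E .xi)) * Inst.M.τ, mul_mem hgb hτ⟩, Subtype.ext ?_⟩
    (Subtype.ext ?_) (Subtype.ext ?_) (mem_PP.2 (R_mem_Q ya)) (mem_PP.2 (R_mem_Q yb)) ?_ ?_
  · show (E .p * E .xi) * Inst.M.τ * Inst.M.z * ((E .p * E .xi) * Inst.M.τ)⁻¹ = Cd.R ya
    rw [← e1, z'_eq, ea]
  · show (E .xi * (E .h * E .xi)) * Inst.M.τ * Inst.M.z * ((E .xi * (E .h * E .xi)) * Inst.M.τ)⁻¹ = Cd.R yb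
    rw [← e1, z'_eq, eb]
  · show (Inst.M.τ * Inst.M.z * Inst.M.τ⁻¹) * Cd.R ya = Cd.R ya * (Inst.M.τ * Inst.M.z * Inst.M.τ⁻¹)
    rw [z'_eq]
    exact hcomm ((form_of rfl hya).trans (form_zero (by decide +kernel)))
  · show (Inst.M.τ * Inst.M.z * Inst.M.τ⁻¹) * Cd.R yb = Cd.R yb * (Inst.M.τ * Inst.M.z * Inst.M.τ⁻¹)
    rw [z'_eq]
    exact hcomm ((form_of rfl hyb).trans (form_zero (by decide +kernel)))
  · intro e
    exact A.orb.τ_z_ne (congrArg Subtype.val e)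
  · intro e
    have e2 : Cd.R ya * Cd.R yb = Cd.R yb * Cd.R ya := congrArg Subtype.val e
    rw [← map_mul, ← map_mul] at e2
    have e3 := (Pauli.commute_iff ya yb).1 (Cd.R_injective e2)
    rw [form_of hya hyb] at e3
    exact form_one (by decide +kernel) e3

end Cfsg.Agent.KFacts.Baby.Inst
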