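import Mathlib
import Cfsg.Prelude.Def_Spor_B
import Cfsg.Agent.BM.StageWSurj
import Cfsg.Agent.KFacts.Baby.Inst
import Cfsg.Agent.KFacts.SheetIso

/-!
# The sheet of type (E) for the Baby Monster (helper922)

`Inner` : every automorphism of `Co₂ = C_K(z)/Q` is inner; `Fix` : the stabiliser of some vector of `Q/⟨z⟩` fixes no other
vector. `sheet_of_isoB : Inner → Fix → IsoB K → ∃ z P R, SheetE z P R` for simple `K`.
-/

set_option autoImplicit false

namespace Cfsg.Agent.KFacts.Baby.Sheet

open Cfsg Cfsg.Agent.BabyM Cfsg.Agent.BabyM.Model Cfsg.Agent.BabyU.ClosModel Cfsg.Agent.KFacts.AutLarge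
open Cfsg.Agent.BabyU.ClosLane Cfsg.Agent.OddHalf.D8.Sheet

/-- every automorphism of `C_K(z)/Q` is inner -/
def Inner : Prop := ∀ α : MulAut GroupInst.K₀, ∃ g : GroupInst.K₀, α = MulAut.conj g

/-- the field `fix` of `SheetInner.Data` -/
def Fix : Prop := ∃ x₀ ∈ PP Inst.M, x₀ ≠ 1 ∧ x₀ ≠ zz A ∧ ∀ y ∈ PP Inst.M,
  (∀ c : Inst.M.G, c * zz A = zz A * c → Eqz (zz A) (c * x₀ * c⁻¹) x₀ → Eqz (zz A) (c * y * c⁻¹) y) →
    Eqz (zz A) y 1 ∨ Eqz (zz A) y x₀

/-- **The data for the model.** -/
theorem data (hi : Inner) (hf : Fix) : SheetInner.Data (PP Inst.M) (zz A) GroupInst.K₀ where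
  large := Baby.Inst.large A
  irr := Baby.Inst.irr' A
  odd := Baby.Inst.odd_index A
  simple := A.grp.simple
  nonab := Baby.Inst.nonab A
  quot := Baby.Inst.quot A
  inner := hi
  gen := Baby.Inst.gen A
  fix := hf
  out := Baby.Inst.out

theorem sheet (hi : Inner) (hf : Fix) :
    SheetE (zz A) (Subgroup.centralizer ({zz A} : Set Inst.M.G)) (PP Inst.M) :=
  have := A.finite_G
  (data hi hf).sheet

/-- The presented group is the model if it is simple. -/
theorem exists_iso [IsSimpleGroup Spor.BabyMonster] : Nonempty (Spor.BabyMonster ≃* Inst.M.G) := by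
  have hs : Function.Surjective (BM.StageW.hom Instance.all Instance.ok) :=
    BM.StageW.hom_surjective Instance.all Instance.ok (BM.StageWSurj.closure_x Instance.all Instance.ok)
  have hi : Function.Injective (BM.StageW.hom Instance.all Instance.ok) := by
    rw [← MonoidHom.ker_eq_bot_iff]
    rcases (inferInstance : (BM.StageW.hom Instance.all Instance.ok).ker.Normal).eq_bot_or_eq_top with h | h
    · exact h
    · exfalso
      have h1 := Instance.all.simple
      obtain ⟨x, hx⟩ := exists_ne (1 : Inst.M.G)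
      obtain ⟨y, rfl⟩ := hs x
      apply hx
      have : y ∈ (BM.StageW.hom Instance.all Instance.ok).ker := by rw [h]; exact Subgroup.mem_top _
      exact this
  exact ⟨MulEquiv.ofBijective _ ⟨hi, hs⟩⟩

/-- A simple group isomorphic to the Baby Monster is isomorphic to the model. -/
theorem exists_iso_of_isoB {K : Type*} [Group K] [IsSimpleGroup K] (h : Spor.IsoB K) :
    Nonempty (Inst.M.G ≃* K) := by
  obtain ⟨e⟩ := h
  have : IsSimpleGroup Spor.BabyMonster := e.symm.isSimpleGroup
  obtain ⟨f⟩ := exists_iso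
  exact ⟨(e.trans f).symm⟩

/-- **The sheet for a simple group isomorphic to the Baby Monster.** -/
theorem sheet_of_isoB (hi : Inner) (hf : Fix) {K : Type*} [Group K] [IsSimpleGroup K] (h : Spor.IsoB K) :
    ∃ (z : K) (P R : Subgroup K), SheetE z P R := by
  obtain ⟨e⟩ := exists_iso_of_isoB h
  exact ⟨_, _, _, SheetIso.sheetE_map e (sheet hi hf)⟩

/-- every automorphism of a simple group isomorphic to the Baby Monster is inner -/
theorem allInner_of_isoB (hi : Inner) (hf : Fix) {K : Type*} [Group K] [IsSimpleGroup K] (h : Spor.IsoB K)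
    (α : MulAut K) : ∃ k : K, α = MulAut.conj k := by
  obtain ⟨e⟩ := exists_iso_of_isoB h
  have := A.finite_G
  obtain ⟨k, hk⟩ := (data hi hf).allInner ((e.trans α).trans e.symm)
  refine ⟨e k, ?_⟩
  ext x
  have h1 := congrArg e (DFunLike.congr_fun hk (e.symm x))
  rw [MulAut.conj_apply, map_mul, map_mul, map_inv] at h1
  simpa using h1

end Cfsg.Agent.KFacts.Baby.Sheet
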